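import Mathlib

/-!
# Definitions for the Wolf bound `|X|_p * |K| ≤ |V|`

`X` a finite solvable group acting faithfully and irreducibly on a finite vector space `V` over a
finite field `K` of characteristic `p`.  (Used for Berger's theorem, S0889.)
-/

set_option autoImplicit false

namespace Cfsg.Agent.Lib.Helper80.Wolf

universe u v

section Defs

variable {K : Type v} [Field K] {V : Type v} [AddCommGroup V] [Module K V] {X : Type u} [Group X]

/-- The subspace `W` is invariant under the subgroup `N`. -/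
def Inv (ρ : X →* (V ≃ₗ[K] V)) (N : Subgroup X) (W : Submodule K V) : Prop :=
  ∀ x ∈ N, ∀ w ∈ W, ρ x w ∈ W

/-- `W` is an irreducible `N`-submodule of `V`. -/
def IrrSub (ρ : X →* (V ≃ₗ[K] V)) (N : Subgroup X) (W : Submodule K V) : Prop :=
  W ≠ ⊥ ∧ Inv ρ N W ∧ ∀ U : Submodule K V, U ≤ W → Inv ρ N U → U = ⊥ ∨ U = W

/-- `V` is an irreducible `X`-module. -/
def Irr (ρ : X →* (V ≃ₗ[K] V)) : Prop := IrrSub ρ ⊤ ⊤

/-- The subspaces `W`, `W'` are isomorphic as `N`-modules. -/
def NIso (ρ : X →* (V ≃ₗ[K] V)) (N : Subgroup X) (W W' : Submodule K V) : Prop :=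
  ∃ f : W ≃ₗ[K] W', ∀ x ∈ N, ∀ (w : W) (hw : ρ x (w : V) ∈ W),
    ((f ⟨ρ x (w : V), hw⟩ : W') : V) = ρ x ((f w : W') : V)

/-- `V` is homogeneous as an `N`-module: all irreducible `N`-submodules are isomorphic. -/
def Homog (ρ : X →* (V ≃ₗ[K] V)) (N : Subgroup X) : Prop :=
  ∀ W W' : Submodule K V, IrrSub ρ N W → IrrSub ρ N W' → NIso ρ N W W'

/-- `x` acts on `V` as a scalar. -/
def IsScalar (ρ : X →* (V ≃ₗ[K] V)) (x : X) : Prop := ∃ c : K, ∀ w : V, ρ x w = c • w

/-- A system of imprimitivity. -/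
structure IsImprimSys (ρ : X →* (V ≃ₗ[K] V)) (𝒲 : Set (Submodule K V)) : Prop where
  indep : sSupIndep 𝒲
  top : sSup 𝒲 = ⊤
  ne_bot : ∀ W ∈ 𝒲, W ≠ ⊥
  map_mem : ∀ x : X, ∀ W ∈ 𝒲, W.map (ρ x).toLinearMap ∈ 𝒲
  trans : ∀ W ∈ 𝒲, ∀ W' ∈ 𝒲, ∃ x : X, W.map (ρ x).toLinearMap = W'

/-- The stabilizer of a subspace. -/
def stab (ρ : X →* (V ≃ₗ[K] V)) (W : Submodule K V) : Subgroup X where
  carrier := {x | W.map (ρ x).toLinearMap = W}
  one_mem' := by
    show W.map (ρ 1).toLinearMap = W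
    rw [map_one]
    exact Submodule.map_id W
  mul_mem' := by
    intro a b ha hb
    show W.map (ρ (a * b)).toLinearMap = W
    have ha' : W.map (ρ a).toLinearMap = W := ha
    have hb' : W.map (ρ b).toLinearMap = W := hb
    rw [map_mul]
    have : (ρ a * ρ b).toLinearMap = (ρ a).toLinearMap ∘ₗ (ρ b).toLinearMap := rfl
    rw [this, Submodule.map_comp, hb', ha']
  inv_mem' := by
    intro a ha
    show W.map (ρ a⁻¹).toLinearMap = W
    have ha' : W.map (ρ a).toLinearMap = W := ha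
    conv_lhs => rw [← ha']
    rw [← Submodule.map_comp]
    have : (ρ a⁻¹).toLinearMap ∘ₗ (ρ a).toLinearMap = LinearMap.id := by
      ext w
      simp [map_inv]
    rw [this]
    exact Submodule.map_id W

theorem mem_stab (ρ : X →* (V ≃ₗ[K] V)) (W : Submodule K V) (x : X) :
    x ∈ stab ρ W ↔ W.map (ρ x).toLinearMap = W := Iff.rfl

/-- The `K`-algebra of operators on `V` generated by the subgroup `A`. -/
def opAlg (ρ : X →* (V ≃ₗ[K] V)) (A : Subgroup X) : Subalgebra K (Module.End K V) :=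
  Algebra.adjoin K ((fun x : X => ((ρ x).toLinearMap : Module.End K V)) '' (A : Set X))

end Defs

/-- The statement of the bound in dimension `d`. -/
def Bound (p d : ℕ) : Prop :=
  ∀ {K V : Type v} {X : Type u} [Field K] [Finite K] [CharP K p] [AddCommGroup V] [Module K V]
    [Finite V] [Group X] [Finite X] [Group.IsSolvable X] (ρ : X →* (V ≃ₗ[K] V)),
    Function.Injective ρ → Irr ρ → Module.finrank K V = d →
    p ^ (Nat.card X).factorization p * Nat.card K ≤ Nat.card V

end Cfsg.Agent.Lib.Helper80.Wolf
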