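import Mathlib
import Cfsg.Agent.Lib.Helper80.Berger.WolfDefs

/-!
# Clifford: translates of an irreducible `N`-submodule (S0889-[CLIFF-SUM])
-/

set_option autoImplicit false

namespace Cfsg.Agent.Lib.Helper80.Wolf

universe u v

variable {K : Type v} [Field K] {V : Type v} [AddCommGroup V] [Module K V] {X : Type u} [Group X]

theorem mem_map_rho (ρ : X →* (V ≃ₗ[K] V)) (W : Submodule K V) (x : X) (w : V) :
    w ∈ W.map (ρ x).toLinearMap ↔ ρ x⁻¹ w ∈ W := by
  constructor
  · rintro ⟨w', hw', rfl⟩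
    have : ρ x⁻¹ ((ρ x).toLinearMap w') = w' := by
      show ρ x⁻¹ (ρ x w') = w'
      rw [← LinearEquiv.mul_apply, ← map_mul, inv_mul_cancel, map_one]
      rfl
    rw [this]
    exact hw'
  · intro h
    refine ⟨ρ x⁻¹ w, h, ?_⟩
    show ρ x (ρ x⁻¹ w) = w
    rw [← LinearEquiv.mul_apply, ← map_mul, mul_inv_cancel, map_one]
    rfl

theorem map_rho_mul (ρ : X →* (V ≃ₗ[K] V)) (W : Submodule K V) (x y : X) :
    (W.map (ρ y).toLinearMap).map (ρ x).toLinearMap = W.map (ρ (x * y)).toLinearMap := by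
  rw [← Submodule.map_comp]
  congr 1
  rw [map_mul]
  rfl

theorem map_rho_one (ρ : X →* (V ≃ₗ[K] V)) (W : Submodule K V) :
    W.map (ρ 1).toLinearMap = W := by
  rw [map_one]
  exact Submodule.map_id W

theorem inv_map (ρ : X →* (V ≃ₗ[K] V)) (N : Subgroup X) [hN : N.Normal] (W : Submodule K V)
    (hW : Inv ρ N W) (x : X) : Inv ρ N (W.map (ρ x).toLinearMap) := by
  intro n hn w hw
  rw [mem_map_rho] at hw ⊢
  have h1 : x⁻¹ * n * x ∈ N := by
    have := hN.conj_mem n hn x⁻¹
    rwa [inv_inv] at this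
  have h2 := hW _ h1 _ hw
  have h3 : ρ (x⁻¹ * n * x) (ρ x⁻¹ w) = ρ x⁻¹ (ρ n w) := by
    rw [← LinearEquiv.mul_apply, ← LinearEquiv.mul_apply, ← map_mul, ← map_mul]
    congr 2
    group
  rwa [h3] at h2

/-- translates of an irreducible `N`-submodule are irreducible -/
theorem irrSub_map (ρ : X →* (V ≃ₗ[K] V)) (N : Subgroup X) [N.Normal] (W : Submodule K V)
    (hW : IrrSub ρ N W) (x : X) : IrrSub ρ N (W.map (ρ x).toLinearMap) := by
  obtain ⟨hne, hinv, hmin⟩ := hW
  refine ⟨?_, inv_map ρ N W hinv x, ?_⟩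
  · intro h
    apply hne
    have h2 := congrArg (fun U => U.map (ρ x⁻¹).toLinearMap) h
    rw [map_rho_mul, inv_mul_cancel, map_rho_one, Submodule.map_bot] at h2
    exact h2
  · intro U hU hUi
    have hU' : U.map (ρ x⁻¹).toLinearMap ≤ W := by
      have := Submodule.map_mono (f := (ρ x⁻¹).toLinearMap) hU
      rwa [map_rho_mul, inv_mul_cancel, map_rho_one] at this
    rcases hmin _ hU' (inv_map ρ N U hUi x⁻¹) with h | h
    · left
      have h2 := congrArg (fun U => U.map (ρ x).toLinearMap) h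
      rw [map_rho_mul, mul_inv_cancel, map_rho_one, Submodule.map_bot] at h2
      exact h2
    · right
      have h2 := congrArg (fun U => U.map (ρ x).toLinearMap) h
      rw [map_rho_mul, mul_inv_cancel, map_rho_one] at h2
      exact h2

/-- the translates of a nonzero subspace span an irreducible module -/
theorem iSup_map_eq_top (ρ : X →* (V ≃ₗ[K] V)) (hirr : Irr ρ) (N : Subgroup X) [N.Normal]
    (W : Submodule K V) (hW : IrrSub ρ N W) : ⨆ x : X, W.map (ρ x).toLinearMap = ⊤ := by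
  obtain ⟨_, _, hmin⟩ := hirr
  have hinv : Inv ρ ⊤ (⨆ x : X, W.map (ρ x).toLinearMap) := by
    intro y _ w hw
    have h1 : (ρ y) w ∈ (⨆ x : X, W.map (ρ x).toLinearMap).map (ρ y).toLinearMap :=
      ⟨w, hw, rfl⟩
    rw [Submodule.map_iSup] at h1
    have h2 : (⨆ x : X, (W.map (ρ x).toLinearMap).map (ρ y).toLinearMap) ≤
        ⨆ x : X, W.map (ρ x).toLinearMap := by
      apply iSup_le
      intro x
      rw [map_rho_mul]
      exact le_iSup (fun x : X => W.map (ρ x).toLinearMap) (y * x)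
    exact h2 h1
  rcases hmin _ le_top hinv with h | h
  · exfalso
    apply hW.1
    have h1 : W.map (ρ 1).toLinearMap ≤ ⨆ x : X, W.map (ρ x).toLinearMap :=
      le_iSup (fun x : X => W.map (ρ x).toLinearMap) 1
    rw [map_rho_one, h] at h1
    exact le_bot_iff.mp h1
  · exact h

/-- a nonzero invariant subspace of a finite module contains an irreducible one -/
theorem exists_irrSub [Finite V] (ρ : X →* (V ≃ₗ[K] V)) (N : Subgroup X) (U : Submodule K V)
    (hU : U ≠ ⊥) (hUi : Inv ρ N U) : ∃ W : Submodule K V, W ≤ U ∧ IrrSub ρ N W := by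
  classical
  have : Finite (Submodule K V) := Finite.of_injective (fun W : Submodule K V => (W : Set V))
    SetLike.coe_injective
  obtain ⟨W, ⟨hWU, hWne, hWi⟩, hmin⟩ := Set.Finite.exists_minimal
    (Set.toFinite {W : Submodule K V | W ≤ U ∧ W ≠ ⊥ ∧ Inv ρ N W}) ⟨U, le_rfl, hU, hUi⟩
  refine ⟨W, hWU, hWne, hWi, ?_⟩
  intro U' hU' hU'i
  by_cases h : U' = ⊥
  · left; exact h
  · right
    exact le_antisymm hU' (hmin ⟨hU'.trans hWU, h, hU'i⟩ hU')

end Cfsg.Agent.Lib.Helper80.Wolf
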