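import Mathlib
import Cfsg.Prelude.Def_Characters
import Cfsg.Agent.Lib.Helper75.Clifford
import Cfsg.Agent.Lib.Helper75.Clifford2
import Cfsg.Agent.Lib.Helper75.Clifford3
import Cfsg.Agent.Lib.Helper78.CharOrtho
import Cfsg.Agent.Lib.Helper78.CharValues
import Cfsg.Agent.Lib.Helper81.IrrTwist
import Cfsg.Agent.Lib.Helper64.MinNormal
import Cfsg.Agent.Lib.Helper75.BergerQPEta
import Cfsg.Agent.Lib.Helper75.BergerQPEnd
import Cfsg.Agent.Lib.Helper83.BergerQPXi
import Cfsg.Agent.Lib.Helper83.BergerGT

/-!
# S0889-[TELE]: degree telescoping for Berger's theorem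

`χ = ψ^G` quasi-primitive, `H` maximal, `N = H ⊓ K`, `|K : N| = p ^ n`: then `p ^ n` divides `|H : N|`.
-/

set_option autoImplicit false
set_option linter.style.haveILetI false
set_option linter.unusedVariables false

namespace Cfsg.Agent.Lib.Helper80.Berger

open Cfsg
open scoped commutatorElement ComplexConjugate
open Cfsg.Agent.Lib.Helper75 Cfsg.Agent.Lib.Helper78
open Cfsg.Agent.Lib.Helper75.Berger Cfsg.Agent.Lib.Helper83.BergerQPXi Cfsg.Agent.Lib.Helper83.BergerGT

universe u



section Tele

variable {G : Type u} [Group G] [Fintype G]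

/-- restriction to a subgroup equal to `⊤` of an irreducible character -/
theorem apply_one_of_eq_top (χ : G → ℂ) (hχ : IsIrrCharacter G χ) (T : Subgroup G) (hT : T = ⊤)
    (η : T → ℂ) (a : ℕ) (hη : IsIrrCharacter T η) (h : (fun m : T => χ m) = (a : ℂ) • η) :
    η 1 = χ 1 := by
  classical
  subst hT
  haveI : Fintype (⊤ : Subgroup G) := Fintype.ofFinite _
  have h1 : IsIrrCharacter (⊤ : Subgroup G) (fun m : (⊤ : Subgroup G) => χ m) :=
    Cfsg.Agent.Lib.Helper81.isIrrCharacter_comp_mulEquiv hχ Subgroup.topEquiv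
  have h2 := classInner_irr_self h1
  rw [h, classInner_smul_left, classInner_smul_right, classInner_irr_self hη] at h2
  have h3 : ((a : ℂ)) * (a : ℂ) = 1 := by
    simpa using h2
  have h4 : a * a = 1 := by exact_mod_cast h3
  have h5 : a = 1 := by
    rcases Nat.eq_zero_or_pos a with h0 | h0
    · subst h0; simp at h4
    · nlinarith
  have h6 := congrFun h (1 : (⊤ : Subgroup G))
  simp only [Pi.smul_apply, smul_eq_mul, h5, Nat.cast_one, one_mul] at h6
  exact h6.symm

theorem index_eq_relIndex (H K N : Subgroup G) [K.Normal] (hsup : H ⊔ K = ⊤) (hinf : H ⊓ K = N) :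
    H.index = N.relIndex K := by
  have h1 := Cfsg.Agent.Lib.Helper64.relIndex_sup_of_normal' K H
  rw [sup_comm, hsup, Subgroup.relIndex_top_right] at h1
  rw [h1, ← hinf, Subgroup.inf_relIndex_right]

/-- an irreducible constituent of the restriction to a subgroup -/
theorem exists_constituent_resNT (H M : Subgroup G) [Fintype M] (hMH : M ≤ H) (ψ : H → ℂ)
    (hψ : IsIrrCharacter H ψ) :
    ∃ ξ : M → ℂ, IsIrrCharacter M ξ ∧ classInner (fun m : M => ψ ⟨m, hMH m.2⟩) ξ ≠ 0 := by
  classical
  by_contra hcon
  push Not at hcon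
  have hres : IsCharacter M (fun m : M => ψ ⟨m, hMH m.2⟩) :=
    isCharacter_resNT M H hMH (IsIrrCharacter.isCharacter hψ)
  have h0 := eq_zero_of_forall_classInner_irr_eq_zero (IsCharacter.isClassFunction hres)
    (fun θ => hcon θ.1 θ.2)
  have h1 := congrFun h0 1
  exact IsIrrCharacter.apply_one_ne_zero hψ h1

theorem two_mul_fact_le (p b m : ℕ) (hp : p.Prime) (hm : m ≠ 0) (hb : b ∣ m) (hb2 : b ^ 2 ≤ m)
    (h : (∃ j : ℕ, m = p ^ j) ∨ m.Coprime p) :
    2 * b.factorization p ≤ m.factorization p := by
  rcases h with ⟨j, rfl⟩ | h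
  · obtain ⟨i, hij, rfl⟩ := (Nat.dvd_prime_pow hp).mp hb
    rw [hp.factorization_pow, hp.factorization_pow]
    simp only [Finsupp.single_eq_same]
    rw [← pow_mul] at hb2
    have := (Nat.pow_le_pow_iff_right hp.one_lt).mp hb2
    omega
  · have h1 : b.Coprime p := Nat.Coprime.coprime_dvd_left hb h
    have h2 : b.factorization p = 0 := by
      apply Nat.factorization_eq_zero_of_not_dvd
      intro hd
      have := Nat.Coprime.eq_one_of_dvd h1.symm hd
      exact hp.one_lt.ne' this
    omega

theorem tele (H K N : Subgroup G) [K.Normal] [N.Normal] (hsolv : Group.IsSolvable H)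
    (hNH : N ≤ H) (hNK : N ≤ K)
    (hsup : H ⊔ K = ⊤) (hinf : H ⊓ K = N) (p n : ℕ) [Fact p.Prime]
    (hcard : N.relIndex K = p ^ n) (χ : G → ℂ) (hχ : IsIrrCharacter G χ)
    (hqp : ∀ M : Subgroup G, M.Normal → ∃ (ϑ : M → ℂ) (e : ℕ), IsIrrCharacter M ϑ ∧
      (fun m : M => χ m) = (e : ℂ) • ϑ)
    (ψ : H → ℂ) (hψ : IsIrrCharacter H ψ) (hind : indFun H ψ = χ) :
    n ≤ (N.relIndex H).factorization p := by
  classical
  have hp : p.Prime := Fact.out
  have key : ∀ k : ℕ, ∀ D : Subgroup G, N ≤ D → ∀ hDH : D ≤ H,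
      (∀ h ∈ H, ∀ d ∈ D, h * d * h⁻¹ ∈ D) → D.relIndex H = k →
      ∀ (_ : Fintype D) (η : ↥(K ⊔ D) → ℂ) (a : ℕ) (ξ : D → ℂ) (x y : ℕ),
        IsIrrCharacter ↥(K ⊔ D) η → (fun m : ↥(K ⊔ D) => χ m) = (a : ℂ) • η →
        IsIrrCharacter D ξ → classInner (fun d : D => ψ ⟨d, hDH d.2⟩) ξ ≠ 0 →
        ξ 1 = x → η 1 = y →
        2 * (n + x.factorization p) ≤ (D.relIndex H).factorization p + 2 * y.factorization p := by
    intro k
    induction k using Nat.strong_induction_on with
    | _ k IH =>
      intro D hND hDH hDn hk _ η a ξ x y hη hχD hξ hc hx hy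
      by_cases hDeq : D = H
      · subst hDeq
        -- base case
        have hT : K ⊔ D = ⊤ := by rw [sup_comm]; exact hsup
        have h1 : η 1 = χ 1 := apply_one_of_eq_top χ hχ (K ⊔ D) hT η a hη hχD
        have h2 : χ 1 = (D.index : ℂ) * ψ 1 := by rw [← hind]; exact indFun_one D ψ
        have h3 : ξ = ψ := by
          by_contra hne
          apply hc
          have : (fun d : D => ψ ⟨d, hDH d.2⟩) = ψ := rfl
          rw [this]
          exact classInner_irr_ne hψ hξ (fun h => hne h.symm)
        have h4 : D.index = p ^ n := by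
          rw [index_eq_relIndex D K N hsup hinf, hcard]
        have h5 : (y : ℂ) = ((p ^ n * x : ℕ) : ℂ) := by
          rw [← hy, h1, h2, h4, ← h3, hx]
          push_cast
          ring
        have h6 : y = p ^ n * x := by exact_mod_cast h5
        have hx0 : x ≠ 0 := by
          intro h0
          apply IsIrrCharacter.apply_one_ne_zero hξ
          rw [hx, h0]; simp
        rw [h6, Nat.factorization_mul (pow_ne_zero n hp.ne_zero) hx0, hp.factorization_pow]
        simp only [Finsupp.coe_add, Pi.add_apply, Finsupp.single_eq_same]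
        omega
      · -- inductive step
        obtain ⟨M, hDM, hMH, hMn, hidx⟩ := exists_p_step p H D hsolv hDH hDn hDeq
        haveI : Fintype M := Fintype.ofFinite M
        haveI hKMn : (K ⊔ M).Normal := sup_normal H K M hsup hMH hMn
        haveI hKDn : (K ⊔ D).Normal := sup_normal H K D hsup hDH hDn
        obtain ⟨ηM, aM, hηM, hχM⟩ := hqp (K ⊔ M) hKMn
        obtain ⟨ξM, hξM, hcM⟩ := exists_constituent_resNT H M hMH ψ hψ
        obtain ⟨xM, hxM⟩ := IsCharacter.exists_apply_one (IsIrrCharacter.isCharacter hξM)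
        obtain ⟨yM, hyM⟩ := IsCharacter.exists_apply_one (IsIrrCharacter.isCharacter hηM)
        have hmul : D.relIndex M * M.relIndex H = D.relIndex H :=
          Subgroup.relIndex_mul_relIndex D M H hDM.le hMH
        have hDMne : D.relIndex M ≠ 0 := Subgroup.index_ne_zero_of_finite
        have hMHne : M.relIndex H ≠ 0 := Subgroup.index_ne_zero_of_finite
        have hDM1 : D.relIndex M ≠ 1 := by
          intro h1
          rw [Subgroup.relIndex_eq_one] at h1
          exact absurd (le_antisymm hDM.le h1) hDM.ne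
        have hlt : M.relIndex H < k := by
          rw [← hk, ← hmul]
          have : 2 ≤ D.relIndex M := by omega
          have h0 : 0 < M.relIndex H := Nat.pos_of_ne_zero hMHne
          nlinarith
        have hIH := IH (M.relIndex H) hlt M (hND.trans hDM.le) hMH hMn rfl inferInstance ηM aM ξM
          xM yM hηM hχM hξM hcM hxM hyM
        obtain ⟨b, hb1, hb2, hb3⟩ := eta_step (K ⊔ D) (K ⊔ M) (sup_le_sup_left hDM.le K) χ hχ η ηM
          hη hηM a aM hχD hχM
        rw [relIndex_sup H K N D M hinf hND hDM.le hMH] at hb2 hb3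
        obtain ⟨c, hc1⟩ := xi_step H D M hDM.le hMH hDn ψ hψ ξ ξM hξ hξM hc hcM
        have hyMb : yM = b * y := by
          have : (yM : ℂ) = ((b * y : ℕ) : ℂ) := by rw [← hyM, hb1, hy]; push_cast; ring
          exact_mod_cast this
        have hxMc : xM = c * x := by
          have : (xM : ℂ) = ((c * x : ℕ) : ℂ) := by rw [← hxM, hc1, hx]; push_cast; ring
          exact_mod_cast this
        have hx0 : x ≠ 0 := by
          intro h0
          apply IsIrrCharacter.apply_one_ne_zero hξ
          rw [hx, h0]; simp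
        have hy0 : y ≠ 0 := by
          intro h0
          apply IsIrrCharacter.apply_one_ne_zero hη
          rw [hy, h0]; simp
        have hxM0 : xM ≠ 0 := by
          intro h0
          apply IsIrrCharacter.apply_one_ne_zero hξM
          rw [hxM, h0]; simp
        have hyM0 : yM ≠ 0 := by
          intro h0
          apply IsIrrCharacter.apply_one_ne_zero hηM
          rw [hyM, h0]; simp
        have hb0 : b ≠ 0 := by
          intro h0; apply hyM0; rw [hyMb, h0, zero_mul]
        have hc0 : c ≠ 0 := by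
          intro h0; apply hxM0; rw [hxMc, h0, zero_mul]
        have hfb := two_mul_fact_le p b (D.relIndex M) hp hDMne hb2 hb3 hidx
        have e1 : xM.factorization p = c.factorization p + x.factorization p := by
          rw [hxMc, Nat.factorization_mul hc0 hx0]; rfl
        have e2 : yM.factorization p = b.factorization p + y.factorization p := by
          rw [hyMb, Nat.factorization_mul hb0 hy0]; rfl
        have e3 : (D.relIndex H).factorization p =
            (D.relIndex M).factorization p + (M.relIndex H).factorization p := by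
          rw [← hmul, Nat.factorization_mul hDMne hMHne]; rfl
        omega
  -- apply at `D = N`
  haveI : Fintype N := Fintype.ofFinite N
  have hKN : K ⊔ N = K := sup_eq_left.mpr hNK
  have hNn : ∀ h ∈ H, ∀ d ∈ N, h * d * h⁻¹ ∈ N := fun h _ d hd =>
    (inferInstance : N.Normal).conj_mem d hd h
  haveI hKNn : (K ⊔ N).Normal := sup_normal H K N hsup hNH hNn
  obtain ⟨η, a, hη, hχη⟩ := hqp (K ⊔ N) hKNn
  obtain ⟨ξ, hξ, hcξ⟩ := exists_constituent_resNT H N hNH ψ hψ
  obtain ⟨x, hx⟩ := IsCharacter.exists_apply_one (IsIrrCharacter.isCharacter hξ)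
  obtain ⟨y, hy⟩ := IsCharacter.exists_apply_one (IsIrrCharacter.isCharacter hη)
  have hmain := key _ N le_rfl hNH hNn rfl inferInstance η a ξ x y hη hχη hξ hcξ hx hy
  -- end step: y^2 = p^n x^2
  obtain ⟨θ, aK, hθ, hχK⟩ := hqp K inferInstance
  obtain ⟨φ₀, e, hφ₀, hχN⟩ := hqp N inferInstance
  have hend := end_step H K N hNH hNK hsup hinf χ hχ ψ hψ hind θ hθ aK hχK φ₀ hφ₀ e hχN ξ hξ hcξ
  -- relate `η 1` and `θ 1`
  have hηθ : η 1 = θ 1 := by
    obtain ⟨yK, hyK⟩ := IsCharacter.exists_apply_one (IsIrrCharacter.isCharacter hθ)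
    -- transport along `K ⊔ N = K`
    have aux : ∀ (T : Subgroup G) (hT : T = K) (η' : T → ℂ) (a' : ℕ), IsIrrCharacter T η' →
        (fun m : T => χ m) = (a' : ℂ) • η' → η' 1 = θ 1 := by
      intro T hT η' a' hη' hχη'
      subst hT
      haveI : Fintype T := Fintype.ofFinite T
      -- both `η'` and `θ` are the unique irreducible constituent of `χ|T`
      by_contra hne
      have hne' : η' ≠ θ := fun h => hne (by rw [h])
      have h0 : classInner (fun m : T => χ m) θ = (aK : ℂ) := by
        rw [hχK, classInner_smul_left, classInner_irr_self hθ, mul_one]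
      have h1 : classInner (fun m : T => χ m) θ = 0 := by
        rw [hχη', classInner_smul_left, classInner_irr_ne hη' hθ hne', mul_zero]
      have h2 : (aK : ℂ) = 0 := by rw [← h0, h1]
      have h3 := congrFun hχK 1
      simp only [Pi.smul_apply, smul_eq_mul, h2, zero_mul] at h3
      exact IsIrrCharacter.apply_one_ne_zero hχ h3
    exact aux (K ⊔ N) hKN η a hη hχη
  have hyx : y ^ 2 = p ^ n * x ^ 2 := by
    have : ((y ^ 2 : ℕ) : ℂ) = ((p ^ n * x ^ 2 : ℕ) : ℂ) := by
      push_cast
      rw [← hy, hηθ, hend, hcard, ← hx]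
      push_cast
      ring
    exact_mod_cast this
  have hx0 : x ≠ 0 := by
    intro h0
    apply IsIrrCharacter.apply_one_ne_zero hξ
    rw [hx, h0]; simp
  have hy0 : y ≠ 0 := by
    intro h0
    apply IsIrrCharacter.apply_one_ne_zero hη
    rw [hy, h0]; simp
  have hfac : 2 * y.factorization p = n + 2 * x.factorization p := by
    have h1 : (y ^ 2).factorization p = (p ^ n * x ^ 2).factorization p := by rw [hyx]
    rw [Nat.factorization_pow, Nat.factorization_mul (pow_ne_zero n hp.ne_zero)
      (pow_ne_zero 2 hx0), Nat.factorization_pow, Nat.factorization_pow,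
      hp.factorization] at h1
    simpa using h1
  omega

end Tele

end Cfsg.Agent.Lib.Helper80.Berger
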