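import Mathlib
import Cfsg.Agent.Lib.Helper80.Berger.WolfDefs
import Cfsg.Agent.Lib.Helper25.BergerCliff
import Cfsg.Agent.Lib.Helper25.BergerBlockIrr
import Cfsg.Agent.Lib.Helper23.BergerWreath
import Cfsg.Agent.Lib.Helper76.BergerFieldInd
import Cfsg.Agent.Lib.Helper76.BergerScalar
import Cfsg.Agent.Lib.Helper99.BergerSPStep

/-!
# The Wolf bound `|X|_p * |K| ≤ |V|` (S0889-[WOLF-MAIN])

A finite solvable group `X` acting faithfully and irreducibly on a finite vector space `V` over a
finite field `K` of characteristic `p`: the order of a Sylow `p`-subgroup of `X` times `|K|` is at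
most `|V|`.  Assembly of the modules [CLIFF], [BLOCK-IRR], [WREATH], [FIELD-IND], [SCALAR],
[SP-STEP] by strong induction on the dimension.
-/

set_option autoImplicit false

namespace Cfsg.Agent.Lib.Helper80.Wolf

universe u v

theorem bound_all (p : ℕ) [Fact p.Prime] : ∀ d : ℕ, Bound.{u, v} p d := by
  intro d
  induction d using Nat.strong_induction_on with
  | _ d IH =>
    intro K V X _ _ _ _ _ _ _ _ _ ρ hρ hirr hd
    by_cases h1 : ∀ N : Subgroup X, N.Normal → Homog ρ N
    · by_cases h2 : ∀ A : Subgroup X, A.Normal → (∀ a ∈ A, ∀ b ∈ A, a * b = b * a) →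
          ∀ a ∈ A, IsScalar ρ a
      · have : Nontrivial V := by
          by_contra hnt
          rw [not_nontrivial_iff_subsingleton] at hnt
          exact hirr.1 (Subsingleton.elim _ _)
        exact Cfsg.Agent.Lib.Helper76.BergerScalar.bound_of_scalar_of_step p
          (fun φ hcyc hcop hcl hsq hP hφ hfix hne =>
            Cfsg.Agent.Lib.Helper99.BergerSP.sp_step p φ hcyc hcop hcl hsq hP hφ hfix hne)
          ρ hρ h2
      · push Not at h2
        obtain ⟨A, hAn, hab, a, ha, hns⟩ := h2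
        haveI := hAn
        exact Cfsg.Agent.Lib.Helper76.BergerFieldInd.bound_of_field p d IH ρ hρ hirr hd h1 A hab
          ⟨a, ha, hns⟩
    · push Not at h1
      obtain ⟨N, hNn, hN⟩ := h1
      haveI := hNn
      obtain ⟨𝒲, h𝒲, h2⟩ := Cfsg.Agent.Lib.Helper25.Berger.exists_imprim_of_not_homog ρ hirr N hN
      exact Cfsg.Agent.Lib.Helper23.BergerWreath.bound_of_imprim_of p d IH ρ hρ hd 𝒲 h𝒲 h2
        (fun W hW => Cfsg.Agent.Lib.Helper25.Berger.irrSub_stab ρ hirr 𝒲 h𝒲 W hW)

/-- **Wolf's bound.** -/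
theorem wolf_bound (p : ℕ) [Fact p.Prime]
    {K V : Type v} {X : Type u} [Field K] [Finite K] [CharP K p] [AddCommGroup V] [Module K V]
    [Finite V] [Group X] [Finite X] [Group.IsSolvable X] (ρ : X →* (V ≃ₗ[K] V))
    (hρ : Function.Injective ρ) (hirr : Irr ρ) :
    p ^ (Nat.card X).factorization p * Nat.card K ≤ Nat.card V :=
  bound_all p _ ρ hρ hirr rfl

end Cfsg.Agent.Lib.Helper80.Wolf
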